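import Groth.Agent.EtDual.K3.PureTop
import Groth.Agent.EtDual.K152.DvrPure
import Groth.Agent.Lefpen.H651.DvrJ
import Groth.Agent.Sga4B.StalkLocal

/-!
# Cohomology of the punctured spectrum, from purity in codimension one

`A` strictly henselian regular local of dimension `d ≥ 1`, `U` its punctured spectrum, `n ∈ Aˣ`:
`H^0(U, ℤ/n) = H^{2d-1}(U, ℤ/n) = ℤ/n` and the other groups vanish (from `DivPure`).
-/

set_option autoImplicit false
universe u
open CategoryTheory CategoryTheory.Limits AlgebraicGeometry Opposite IsLocalRing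

namespace K690.PunctCor

open Groth.Agent K3.DivDef

/-- The stalk of the structure sheaf of `Spec A` at the closed point has the dimension of `A`. -/
theorem ringKrullDim_stalk (A : Type u) [CommRing A] (z : Spec (CommRingCat.of A)) :
    ringKrullDim ((Spec (CommRingCat.of A)).presheaf.stalk z) = z.asIdeal.height := by
  have hz : z.asIdeal.IsPrime := z.2
  have h : IsLocalization.AtPrime ((Spec (CommRingCat.of A)).presheaf.stalk z) z.asIdeal :=
    StructureSheaf.IsLocalization.to_stalk A z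
  exact IsLocalization.AtPrime.ringKrullDim_eq_height z.asIdeal _

section main

variable (A : Type u) [CommRing A] [IsRegularLocalRing A] (hA : EtCoh.IsStrictlyHenselianLocalRing A)
  (hP : ∀ n : ℕ, 0 < n → DivPure.{u} n) {d : ℕ} (hd : ringKrullDim A = d)
  {U : Scheme.{u}} (j : U ⟶ Spec (CommRingCat.of A)) [IsOpenImmersion j]
  (hU : ∀ x : PrimeSpectrum A, x ∈ Set.range j.base ↔ x ≠ closedPoint A)
  (n : ℕ) (hn0 : 0 < n) (hn : IsUnit (n : A))

omit [IsRegularLocalRing A] in
theorem isClosedImmersion_residue [IsLocalRing A] :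
    IsClosedImmersion (Spec.map (CommRingCat.ofHom (residue A))) :=
  IsClosedImmersion.spec_of_surjective _ residue_surjective

omit [IsRegularLocalRing A] in
theorem range_residue [IsLocalRing A] (z : Spec (CommRingCat.of A)) :
    z ∈ Set.range (Spec.map (CommRingCat.ofHom (residue A))) ↔ z = closedPoint A := by
  have hr : Set.range (Spec.map (CommRingCat.ofHom (residue A))) =
      PrimeSpectrum.zeroLocus (RingHom.ker (residue A) : Set A) :=
    range_comap_of_surjective _ _ residue_surjective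
  rw [hr, ker_residue]
  change (maximalIdeal A : Set A) ⊆ z.asIdeal ↔ _
  constructor
  · intro h
    have h1 : maximalIdeal A ≤ z.asIdeal := h
    exact PrimeSpectrum.ext (le_antisymm (le_maximalIdeal z.2.ne_top) h1)
  · rintro rfl
    exact subset_rfl

include hU in
theorem range_eq : Set.range j = (Set.range (Spec.map (CommRingCat.ofHom (residue A))))ᶜ := by
  ext z
  rw [Set.mem_compl_iff, range_residue]
  exact hU z

include hd in
theorem codim (y : Spec (CommRingCat.of (ResidueField A))) :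
    ringKrullDim ((Spec (CommRingCat.of A)).presheaf.stalk ((Spec.map (CommRingCat.ofHom (residue A))) y)) =
      ringKrullDim ((Spec (CommRingCat.of (ResidueField A))).presheaf.stalk y) + (d : ℕ) := by
  rw [ringKrullDim_stalk, ringKrullDim_stalk]
  have h1 : (Spec.map (CommRingCat.ofHom (residue A))) y = closedPoint A :=
    (range_residue A _).1 ⟨y, rfl⟩
  rw [h1]
  have h2 : y.asIdeal = ⊥ := (Ideal.eq_bot_or_top y.asIdeal).resolve_right y.2.ne_top
  rw [h2, Ideal.height_bot]
  change ((maximalIdeal A).height : WithBot ℕ∞) = _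
  rw [IsLocalRing.maximalIdeal_height_eq_ringKrullDim, hd]
  simp

include hP hd hU hn0 hn in
theorem isZero_locCoh (q : ℕ) (hq : q ≠ 2 * d) :
    IsZero ((EtDual.locCoh j q).obj (EtCoh.const (Spec (CommRingCat.of A)) (ZMod n))) :=
  have := isClosedImmersion_residue A
  K3.PureTop.van hP (K3.PureVan.isRegularLocalRing_stalk A) (Spec.map (CommRingCat.ofHom (residue A)))
    (K3.PureVan.isRegularLocalRing_stalk (ResidueField A)) j (range_eq A j hU) d (codim A hd) n hn0
    (K3.PureVan.isUnit_top hn) q hq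

include hA hP hd hU hn0 hn in
theorem nonempty_locCoh_top :
    Nonempty ((EtDual.locCoh j (2 * d)).obj (EtCoh.const (Spec (CommRingCat.of A)) (ZMod n)) ≅
      (EtCoh.push (Spec.map (CommRingCat.ofHom (residue A)))).obj
        (EtCoh.const (Spec (CommRingCat.of (ResidueField A))) (ZMod n))) := by
  have := isClosedImmersion_residue A
  obtain ⟨e⟩ := K3.PureTop.top hP (K3.PureVan.isRegularLocalRing_stalk A)
    (Spec.map (CommRingCat.ofHom (residue A)))
    (K3.PureVan.isRegularLocalRing_stalk (ResidueField A)) j (range_eq A j hU) d (codim A hd) n hn0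
    (K3.PureVan.isUnit_top hn)
  obtain ⟨t⟩ := K152.DvrPure.nonempty_tate_iso A hA n hn0 hn (𝟙 (Spec (CommRingCat.of A))) d
  exact ⟨(EtDual.locCoh j (2 * d)).mapIso t ≪≫ e⟩

/-- Cohomology of `U` and local cohomology. -/
theorem nonempty_H_succ [HenselianLocalRing A] [IsSepClosed (ResidueField A)] (q : ℕ) :
    Nonempty (((EtCoh.stalk (Etbase.StrictHensPoint.pt A)).obj
      ((EtDual.locCoh j (q + 2)).obj (EtCoh.const (Spec (CommRingCat.of A)) (ZMod n))) :
      AddCommGrpCat.{u + 1}) ≃+ EtCoh.H U (EtCoh.const U (ZMod n)) (q + 1)) := by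
  obtain ⟨e⟩ := Lefpen.H651.DvrJ.nonempty_stalk_Rpush A j (EtCoh.const U (ZMod n)) (q + 1)
  let a := (Sga4h.LocCohLES.locCohSuccIso j (EtCoh.const (Spec (CommRingCat.of A)) (ZMod n)) q).symm ≪≫
    (EtCoh.Rpush j (q + 1)).mapIso (Sga4B.Pure.pullConst j (ZMod n))
  exact ⟨((EtCoh.stalk (Etbase.StrictHensPoint.pt A)).mapIso a).addCommGroupIsoToAddEquiv.trans e⟩

include hA hP hd hU hn0 hn in
/-- The cohomology of the punctured spectrum vanishes in degrees `≠ 0, 2d - 1`. -/
theorem subsingleton (q : ℕ) (hq0 : q ≠ 0) (hq : q ≠ 2 * d - 1) :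
    Subsingleton (EtCoh.H U (EtCoh.const U (ZMod n)) q) := by
  obtain ⟨h1, h2⟩ := hA
  obtain ⟨q, rfl⟩ := Nat.exists_eq_succ_of_ne_zero hq0
  obtain ⟨e⟩ := nonempty_H_succ A j n q
  have h3 := isZero_locCoh A hP hd j hU n hn0 hn (q + 2) (by omega)
  have h4 := (EtCoh.stalk (Etbase.StrictHensPoint.pt A)).map_isZero h3
  have h5 : Subsingleton ((EtCoh.stalk (Etbase.StrictHensPoint.pt A)).obj
      ((EtDual.locCoh j (q + 2)).obj (EtCoh.const (Spec (CommRingCat.of A)) (ZMod n)))) :=
    AddCommGrpCat.subsingleton_of_isZero h4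
  exact e.symm.injective.subsingleton

include hA hP hd hU hn0 hn in
/-- The top cohomology group of the punctured spectrum. -/
theorem nonempty_top (hd1 : 1 ≤ d) :
    Nonempty (EtCoh.H U (EtCoh.const U (ZMod n)) (2 * d - 1) ≃+ ZMod n) := by
  obtain ⟨t⟩ := nonempty_locCoh_top A hA hP hd j hU n hn0 hn
  obtain ⟨h1, h2⟩ := hA
  obtain ⟨q, rfl⟩ := Nat.exists_eq_add_of_le' hd1
  obtain ⟨e⟩ := nonempty_H_succ A j n (2 * q)
  let i := Spec.map (CommRingCat.ofHom (residue A))
  have hi : IsClosedImmersion i := isClosedImmersion_residue A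
  obtain ⟨s⟩ := Sga4B.StalkLocal.nonempty_stalk_push_pull_const i (ZMod n)
    (Etbase.StrictHensPoint.pt A) ⟨_, rfl⟩
  have h3 : 2 * (q + 1) - 1 = 2 * q + 1 := by omega
  rw [h3]
  exact ⟨e.symm.trans (((EtCoh.stalk (Etbase.StrictHensPoint.pt A)).mapIso
    (t ≪≫ (EtCoh.push i).mapIso (Sga4B.Pure.pullConst i (ZMod n)).symm)).addCommGroupIsoToAddEquiv.trans s)⟩

include hA hP hd hU hn0 hn in
/-- The degree zero cohomology group of the punctured spectrum. -/
theorem nonempty_zero (hd1 : 1 ≤ d) :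
    Nonempty (EtCoh.H U (EtCoh.const U (ZMod n)) 0 ≃+ ZMod n) := by
  obtain ⟨h1, h2⟩ := hA
  have hm : Mono (EtDual.unitApp j (EtCoh.const (Spec (CommRingCat.of A)) (ZMod n))) :=
    (Sga4h.LocCohLES.isZero_locCoh_zero_iff j _).1 (isZero_locCoh A hP hd j hU n hn0 hn 0 (by omega))
  have he : Epi (EtDual.unitApp j (EtCoh.const (Spec (CommRingCat.of A)) (ZMod n))) :=
    (Sga4h.LocCohLES.isZero_locCoh_one_iff j _).1 (isZero_locCoh A hP hd j hU n hn0 hn 1 (by omega))
  have hi := isIso_of_mono_of_epi (EtDual.unitApp j (EtCoh.const (Spec (CommRingCat.of A)) (ZMod n)))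
  obtain ⟨e⟩ := Lefpen.H651.DvrJ.nonempty_stalk_Rpush A j (EtCoh.const U (ZMod n)) 0
  obtain ⟨s⟩ := Sga4B.StalkLocal.nonempty_stalk_const (ZMod n) (Etbase.StrictHensPoint.pt A)
  let a : EtCoh.const (Spec (CommRingCat.of A)) (ZMod n) ≅ (EtCoh.Rpush j 0).obj (EtCoh.const U (ZMod n)) :=
    asIso (EtDual.unitApp j (EtCoh.const (Spec (CommRingCat.of A)) (ZMod n))) ≪≫
      (EtCoh.push j).mapIso (Sga4B.Pure.pullConst j (ZMod n)) ≪≫
      (EtCoh.push j).rightDerivedZeroIsoSelf.symm.app _
  exact ⟨e.symm.trans (((EtCoh.stalk (Etbase.StrictHensPoint.pt A)).mapIso a.symm).addCommGroupIsoToAddEquiv.trans s)⟩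

end main

end K690.PunctCor
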