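import Groth.Agent.EtDual.K690.PunctCor
import Groth.Prelude.Def_EtDual
import Groth.Prelude.Def_Hensel

/-!
# Two corollaries of absolute purity for strict henselizations of schemes of finite type

`DivPure` (all `n`) implies the vanishing of `H^q(O[1/f], ℤ/n)` for `q ≥ 2` and the duality
`H^q(U, ℤ/n) = Hom(H^{2d-1-q}(U, ℤ/n), ℤ/n)` for the punctured spectrum `U`.
-/

set_option autoImplicit false
universe u
open CategoryTheory CategoryTheory.Limits AlgebraicGeometry Opposite IsLocalRing

namespace K690.PunctRows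

open Groth.Agent K3.DivDef

/-- A strict henselization is strictly henselian. -/
theorem isStrictlyHenselian (A : Type u) [CommRing A] [IsLocalRing A] (O : Type u) [CommRing O] [IsLocalRing O]
    [Algebra A O] [IsLocalHom (algebraMap A O)] [Hensel.IsStrictHenselization A O] :
    EtCoh.IsStrictlyHenselianLocalRing O := by
  have h1 : HenselianLocalRing O := Hensel.IsStrictHenselization.henselian A
  have h2 : IsSepClosure (ResidueField A) (ResidueField O) :=
    Hensel.IsStrictHenselization.isSepClosure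
  exact ⟨h1, h2.sep_closed⟩

/-- Integers invertible on `S` are invertible in every algebra over a local ring of an `S`-scheme. -/
theorem isUnit_of {S T : Scheme.{u}} (n : ℕ) (hn : IsUnit (n : Γ(S, ⊤))) (g : T ⟶ S) (t : T)
    (O : Type u) [CommRing O] [Algebra (T.presheaf.stalk t) O] : IsUnit (n : O) := by
  have h1 := hn.map (g.appTop).hom
  rw [map_natCast] at h1
  have h2 := h1.map (T.presheaf.germ ⊤ t trivial).hom
  rw [map_natCast] at h2
  have h3 := h2.map (algebraMap (T.presheaf.stalk t) O)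
  rwa [map_natCast] at h3

/-- The duality of the cohomology of the punctured spectrum. -/
theorem duality (A : Type u) [CommRing A] [IsRegularLocalRing A] (hA : EtCoh.IsStrictlyHenselianLocalRing A)
    (hP : ∀ n : ℕ, 0 < n → DivPure.{u} n) {d : ℕ} (hd : ringKrullDim A = d) (hd1 : 1 ≤ d)
    {U : Scheme.{u}} (j : U ⟶ Spec (CommRingCat.of A)) [IsOpenImmersion j]
    (hU : ∀ x : PrimeSpectrum A, x ∈ Set.range j.base ↔ x ≠ closedPoint A)
    (n : ℕ) (hn0 : 0 < n) (hn : IsUnit (n : A)) (q q' : ℕ) (hq : q + q' = 2 * d - 1) :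
    Nonempty (EtCoh.H U (EtCoh.const U (ZMod n)) q ≃+ (EtCoh.H U (EtCoh.const U (ZMod n)) q' →+ ZMod n)) := by
  have hE : Nonempty (ZMod n ≃+ (ZMod n →+ ZMod n)) := by
    have : NeZero n := ⟨hn0.ne'⟩
    refine ⟨AddEquiv.ofBijective (AddMonoidHom.mul : ZMod n →+ ZMod n →+ ZMod n) ⟨?_, ?_⟩⟩
    · rw [injective_iff_map_eq_zero]
      intro a ha
      have := DFunLike.congr_fun ha (1 : ZMod n)
      simpa using this
    · intro φ
      refine ⟨φ 1, ?_⟩
      ext b
      obtain ⟨m, rfl⟩ := ZMod.natCast_zmod_surjective b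
      simp only [AddMonoidHom.mul_apply]
      rw [← nsmul_one m, map_nsmul, nsmul_eq_mul, nsmul_eq_mul, mul_one, mul_comm]
  obtain ⟨ε⟩ := hE
  obtain ⟨z⟩ := PunctCor.nonempty_zero A hA hP hd j hU n hn0 hn hd1
  obtain ⟨t⟩ := PunctCor.nonempty_top A hA hP hd j hU n hn0 hn hd1
  by_cases h0 : q = 0
  · subst h0
    obtain rfl : q' = 2 * d - 1 := by omega
    exact ⟨z.trans (ε.trans (t.symm.addMonoidHomCongrLeft))⟩
  by_cases h1 : q = 2 * d - 1
  · subst h1
    obtain rfl : q' = 0 := by omega
    exact ⟨t.trans (ε.trans (z.symm.addMonoidHomCongrLeft))⟩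
  have s1 := PunctCor.subsingleton A hA hP hd j hU n hn0 hn q h0 h1
  have s2 := PunctCor.subsingleton A hA hP hd j hU n hn0 hn q' (by omega) (by omega)
  have s3 : Subsingleton (EtCoh.H U (EtCoh.const U (ZMod n)) q' →+ ZMod n) :=
    ⟨fun a b => AddMonoidHom.ext fun x => by rw [Subsingleton.elim x 0, map_zero, map_zero]⟩
  refine ⟨⟨⟨fun _ => 0, fun _ => 0, fun _ => Subsingleton.elim _ _, fun _ => Subsingleton.elim _ _⟩,
    fun _ _ => Subsingleton.elim _ _⟩⟩

end K690.PunctRows
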