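import Groth.Agent.EtDual.K608.Final
import Groth.Agent.EtDual.K726.Main
import Groth.Agent.EtDual.K821.HU
import Groth.Agent.EtDual.K147.HV
import Groth.Agent.EtDual.K143.AlphaIn

/-!
# Absolute purity: the final line (all inputs are theorems)
-/

set_option autoImplicit false
set_option backward.isDefEq.respectTransparency false
set_option backward.isDefEq.respectTransparency.types false

universe u

open CategoryTheory CategoryTheory.Limits AlgebraicGeometry

noncomputable section

namespace K690.Purity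

theorem puncWeak (ℓ : ℕ) (hℓ : ℓ.Prime) : K726.PuncWeak.{u} ℓ := by
  have hne : NeZero ℓ := ⟨hℓ.ne_zero⟩
  have hT : ∀ d : ℕ, EtCoh.IsTorsion (EtCoh.const (Spec (K933.PerfCat.Pd.{u} d)) (ZMod ℓ)) :=
    fun d => Groth.Agent.EtDual.K850.Red.isTorsion_const _ ℓ (NeZero.pos ℓ)
  refine K608.Final.puncWeak' ℓ hℓ (fun d R₀ x => ?_) (fun d R₀ x a ha => ?_) (fun d => Groth.Agent.EtDual.K143.PV.alphaIn ℓ d)
  · exact K147.Glue.hv (K608.Final.U0 d).ι (hT d) (K608.Final.J ℓ d) x
  · refine K821.HU.hU (hT d) (K608.Final.J ℓ d) (K608.Final.hv ℓ d) (K608.Final.U0 d).ι ?_ x a ha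
    rw [Scheme.Opens.range_ι]
    rfl

theorem divPure (n : ℕ) (hn : 0 < n) : K3.DivDef.DivPure.{u} n :=
  K726.Main.divPure (fun ℓ hℓ => puncWeak ℓ hℓ) n hn

end K690.Purity
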